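import Groth.Agent.Lib.EtSite.ImmersionSets
import Groth.Agent.Lib.EtBasicB.OpenSubterminal
import Mathlib.CategoryTheory.Limits.Preserves.Shapes.BinaryProducts

/-!
# Sheaves over an open subsheaf of the final object are the sheaves on the open
-/

set_option autoImplicit false
set_option backward.isDefEq.respectTransparency false
set_option backward.isDefEq.respectTransparency.types false

universe u

open CategoryTheory CategoryTheory.Limits AlgebraicGeometry Opposite
open GrothLib.EtSite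

noncomputable section

namespace GrothLib.OpenTopos18

variable {X : Scheme.{u}} (U : X.Opens)

/-- The subsheaf of the final object attached to `U`. -/
abbrev h : EtDesc.Sh X := EtDesc.repSh (EtDesc.ofOpen U)

variable {Ω : Type u} [Field Ω] [IsSepClosed Ω]

theorem isEmpty_stalk (ξ : Spec (CommRingCat.of Ω) ⟶ X) (hξ : ξ default ∉ U) :
    IsEmpty ((stalkSh ξ).obj (h U)) := by
  let e := EtBasicB.repShOpenIso U
  suffices IsEmpty ((stalkSh ξ).obj (EtBasicB.openSheaf U)) from
    Function.isEmpty ((stalkSh ξ).map e.hom : _ → (stalkSh ξ).obj (EtBasicB.openSheaf U))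
  refine ⟨fun p => ?_⟩
  obtain ⟨V, t, s, -⟩ := (Scheme.pointSmallEtale ξ).toPresheafFiber_jointly_surjective
    (P := (EtBasicB.openSheaf U).obj) p
  have hr := (EtBasicB.nonempty_openPsh_iff U V).1 ⟨s⟩
  refine hξ (hr ⟨t.left (default : Spec (CommRingCat.of Ω)), ?_⟩)
  have : t.left ≫ V.hom = ξ := Over.w t
  exact congrArg (fun k : Spec (CommRingCat.of Ω) ⟶ X => k default) this

theorem unique_stalk (ζ : Spec (CommRingCat.of Ω) ⟶ U.toScheme) :
    Nonempty (Unique ((stalkSh (ζ ≫ U.ι)).obj (h U))) := by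
  let e := EtBasicB.repShOpenIso U
  obtain ⟨hu⟩ := stalkSh_unique_of_nhds (EtBasicB.openSheaf U) (ζ ≫ U.ι) U (ζ default).2 fun V hV => by
    haveI : Subsingleton (EtDesc.sect (EtBasicB.openSheaf U) V) := EtBasicB.subsingleton_openPsh U (op V)
    have : Nonempty ((EtBasicB.openPsh U).obj (op V)) :=
      (EtBasicB.nonempty_openPsh_iff U V).2 (by rintro _ ⟨v, rfl⟩; exact hV v)
    exact ⟨{ default := this.some, uniq := fun _ => Subsingleton.elim _ _ }⟩
  exact ⟨((stalkSh (ζ ≫ U.ι)).mapIso e).toEquiv.unique⟩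

omit U in
/-- A product with a one-point second factor. -/
theorem bijective_map_fst (ξ : Spec (CommRingCat.of Ω) ⟶ X) (A B : EtDesc.Sh X)
    (hB : Nonempty (Unique ((stalkSh ξ).obj B))) :
    Function.Bijective ((stalkSh ξ).map (prod.fst : A ⨯ B ⟶ A)) := by
  obtain ⟨hB⟩ := hB
  let hl := isLimitOfHasBinaryProductOfPreservesLimit (stalkSh ξ) A B
  rw [← isIso_iff_bijective]
  let i : (stalkSh ξ).obj A ⟶ (stalkSh ξ).obj (A ⨯ B) :=
    hl.lift (BinaryFan.mk (𝟙 _) (↾fun _ => hB.default))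
  have hi : i ≫ (stalkSh ξ).map prod.fst = 𝟙 _ := hl.fac (BinaryFan.mk _ _) ⟨WalkingPair.left⟩
  refine ⟨i, ?_, hi⟩
  apply BinaryFan.IsLimit.hom_ext hl
  · show ((stalkSh ξ).map prod.fst ≫ i) ≫ (stalkSh ξ).map prod.fst = 𝟙 _ ≫ (stalkSh ξ).map prod.fst
    rw [Category.assoc, hi, Category.comp_id, Category.id_comp]
  · ext z
    exact (hB.uniq _).trans (hB.uniq _).symm

/-- The unit is bijective on stalks at points of `U`. -/
theorem bijective_unit (F : EtDesc.Sh X) (ζ : Spec (CommRingCat.of Ω) ⟶ U.toScheme) :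
    Function.Bijective ((stalkSh (ζ ≫ U.ι)).map ((EtDesc.adjSh U.ι).unit.app F)) := by
  have := isIso_counitSh U.ι ((EtDesc.pullSh U.ι).obj F)
  have : IsIso (𝟙 ((EtDesc.pullSh U.ι).obj F)) := IsIso.id _
  have : IsIso ((EtDesc.pullSh U.ι).map ((EtDesc.adjSh U.ι).unit.app F)) :=
    IsIso.of_isIso_fac_right ((EtDesc.adjSh U.ι).left_triangle_components F)
  rw [← isIso_iff_bijective]
  exact (NatIso.isIso_map_iff (pullStalkShIso ζ U.ι) _).1
    (inferInstanceAs (IsIso ((stalkSh ζ).map ((EtDesc.pullSh U.ι).map ((EtDesc.adjSh U.ι).unit.app F)))))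

/-- Points in and out of `U`. -/
theorem point_cases (x : X) :
    (∃ (z : U.toScheme), (gpt z ≫ U.ι) default = x) ∨ (gpt x default ∉ U) := by
  by_cases hx : x ∈ U
  · refine Or.inl ⟨⟨x, hx⟩, ?_⟩
    rw [Scheme.Hom.comp_apply, gpt_default]; rfl
  · refine Or.inr ?_
    rw [gpt_default]; exact hx

variable (F : Over (h U))

/-- The comparison map. -/
def cmpMap : F.left ⟶ (EtDesc.pushSh U.ι).obj ((EtDesc.pullSh U.ι).obj F.left) ⨯ h U :=
  prod.lift ((EtDesc.adjSh U.ι).unit.app F.left) F.hom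

instance isIso_cmpMap : IsIso (cmpMap U F) := by
  refine isIso_of_stalksSh _ fun x => ?_
  rcases point_cases U x with ⟨z, hz⟩ | hx
  · refine ⟨_, _, inferInstance, gpt z ≫ U.ι, hz, ?_⟩
    have hc : (stalkSh (gpt z ≫ U.ι)).map (cmpMap U F) ≫ (stalkSh (gpt z ≫ U.ι)).map prod.fst =
        (stalkSh (gpt z ≫ U.ι)).map ((EtDesc.adjSh U.ι).unit.app F.left) := by
      rw [← Functor.map_comp]; exact congrArg _ (prod.lift_fst _ _)
    haveI : IsIso ((stalkSh (gpt z ≫ U.ι)).map
        (prod.fst : (EtDesc.pushSh U.ι).obj ((EtDesc.pullSh U.ι).obj F.left) ⨯ h U ⟶ _)) :=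
      (isIso_iff_bijective _).2 (bijective_map_fst _ _ _ (unique_stalk U (gpt z)))
    haveI : IsIso ((stalkSh (gpt z ≫ U.ι)).map ((EtDesc.adjSh U.ι).unit.app F.left)) :=
      (isIso_iff_bijective _).2 (bijective_unit U F.left (gpt z))
    rw [← isIso_iff_bijective]
    exact IsIso.of_isIso_fac_right hc
  · refine ⟨_, _, inferInstance, gpt x, gpt_default x, ?_⟩
    haveI := isEmpty_stalk U (gpt x) hx
    haveI : IsEmpty ((stalkSh (gpt x)).obj ((EtDesc.pushSh U.ι).obj ((EtDesc.pullSh U.ι).obj F.left) ⨯ h U)) :=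
      Function.isEmpty ((stalkSh (gpt x)).map prod.snd : _ → (stalkSh (gpt x)).obj (h U))
    haveI : IsEmpty ((stalkSh (gpt x)).obj F.left) :=
      Function.isEmpty ((stalkSh (gpt x)).map F.hom : _ → (stalkSh (gpt x)).obj (h U))
    exact ⟨fun a => isEmptyElim a, fun a => isEmptyElim a⟩

theorem isEquivalence : (Over.forget (h U) ⋙ EtDesc.pullSh U.ι).IsEquivalence := by
  haveI : (Over.forget (h U) ⋙ EtDesc.pullSh U.ι).Faithful := ⟨fun {A B} a b hab => by
    refine Over.OverMorphism.ext (hom_ext_of_stalksSh _ _ fun x => ?_)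
    rcases point_cases U x with ⟨z, hz⟩ | hx
    · refine ⟨_, _, inferInstance, gpt z ≫ U.ι, hz, ?_⟩
      have h1 := (pullStalkShIso (gpt z) U.ι).hom.naturality a.left
      have h2 := (pullStalkShIso (gpt z) U.ι).hom.naturality b.left
      have he : (EtDesc.pullSh U.ι ⋙ stalkSh (gpt z)).map a.left =
          (EtDesc.pullSh U.ι ⋙ stalkSh (gpt z)).map b.left :=
        congrArg (fun k => (stalkSh (gpt z)).map k) hab
      rw [he, h2] at h1
      exact ((cancel_epi _).1 h1).symm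
    · refine ⟨_, _, inferInstance, gpt x, gpt_default x, ?_⟩
      haveI := isEmpty_stalk U (gpt x) hx
      haveI : IsEmpty ((stalkSh (gpt x)).obj A.left) :=
        Function.isEmpty ((stalkSh (gpt x)).map A.hom : _ → (stalkSh (gpt x)).obj (h U))
      ext y
      exact isEmptyElim y⟩
  haveI : (Over.forget (h U) ⋙ EtDesc.pullSh U.ι).Full := ⟨fun {A B} c => by
    let φ : A.left ⟶ B.left :=
      cmpMap U A ≫ prod.map ((EtDesc.pushSh U.ι).map c) (𝟙 _) ≫ inv (cmpMap U B)
    have hs : φ ≫ cmpMap U B = cmpMap U A ≫ prod.map ((EtDesc.pushSh U.ι).map c) (𝟙 _) := by simp [φ]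
    have hw : φ ≫ B.hom = A.hom := by
      have := congrArg (· ≫ prod.snd) hs
      simpa [cmpMap] using this
    have hu : φ ≫ (EtDesc.adjSh U.ι).unit.app B.left =
        (EtDesc.adjSh U.ι).unit.app A.left ≫ (EtDesc.pushSh U.ι).map c := by
      have := congrArg (· ≫ prod.fst) hs
      simpa [cmpMap] using this
    refine ⟨Over.homMk φ hw, ?_⟩
    show (EtDesc.pullSh U.ι).map φ = c
    refine ((EtDesc.adjSh U.ι).homEquiv _ _).injective ?_
    rw [Adjunction.homEquiv_unit, Adjunction.homEquiv_unit]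
    refine Eq.trans ?_ hu
    exact ((EtDesc.adjSh U.ι).unit.naturality φ).symm⟩
  haveI : (Over.forget (h U) ⋙ EtDesc.pullSh U.ι).EssSurj := ⟨fun G => by
    let A := (EtDesc.pushSh U.ι).obj G
    refine ⟨Over.mk (prod.snd : A ⨯ h U ⟶ h U), ⟨?_⟩⟩
    haveI : IsIso ((EtDesc.pullSh U.ι).map (prod.fst : A ⨯ h U ⟶ A)) := by
      refine isIso_of_stalksSh _ fun z => ⟨_, _, inferInstance, gpt z, gpt_default z, ?_⟩
      rw [← isIso_iff_bijective]
      exact (NatIso.isIso_map_iff (pullStalkShIso (gpt z) U.ι) (prod.fst : A ⨯ h U ⟶ A)).2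
        ((isIso_iff_bijective _).2 (bijective_map_fst _ _ _ (unique_stalk U (gpt z))))
    haveI := isIso_counitSh U.ι G
    exact asIso ((EtDesc.pullSh U.ι).map (prod.fst : A ⨯ h U ⟶ A)) ≪≫ asIso ((EtDesc.adjSh U.ι).counit.app G)⟩
  exact {}

end GrothLib.OpenTopos18
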